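import Mathlib
import Cfsg.Agent.H375.SZ.Alg

/-!
# Zero coefficients for `Sp₄` (helper375): nonvanishing in characteristic `p`
-/

set_option autoImplicit false
set_option linter.unusedSimpArgs false

namespace Cfsg.Agent.H375.SZ

open Polynomial

section nil

variable {R : Type*} [CommRing R]

/-- the coefficient of `ρ` -/
noncomputable def c10 (M a b : ℕ) : ℤ :=
  M * 2 ^ a * cf b (b + 1) (AA ℤ ^ (M - 1)) + a * 2 ^ (a - 1) * cf b (b + 1) (AA ℤ ^ M)

/-- the coefficient of `-τ` -/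
noncomputable def c01 (M a b : ℕ) : ℤ :=
  M * 2 ^ a * cf (b + 1) b (AA ℤ ^ (M - 1)) + a * 2 ^ (a - 1) * cf (b + 1) b (AA ℤ ^ M)

/-- the coefficient of `-ρτ` -/
noncomputable def c11 (M a b : ℕ) : ℤ :=
  M * (M - 1) * 2 ^ a * cf b b (AA ℤ ^ (M - 2)) + 2 * (M * a * 2 ^ (a - 1)) * cf b b (AA ℤ ^ (M - 1)) +
    a * (a - 1) * 2 ^ (a - 2) * cf b b (AA ℤ ^ M)

theorem KK_nil (ρ τ : R) (hρ : ρ * ρ = 0) (hτ : τ * τ = 0) (M a b : ℕ) :
    KK ρ τ M a (b + 1) (b + 1) = ((2 ^ a * cf (b + 1) (b + 1) (AA ℤ ^ M) : ℤ) : R) + ρ * ((c10 M a b : ℤ) : R) -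
      τ * ((c01 M a b : ℤ) : R) - ρ * τ * ((c11 M a b : ℤ) : R) := by
  have e : PP ρ τ M a = C (C ((2 : R) ^ a)) * AA R ^ M +
      C (C ρ) * (C X * (C (C ((M : R) * 2 ^ a)) * AA R ^ (M - 1) + C (C ((a : R) * 2 ^ (a - 1))) * AA R ^ M)) -
      C (C τ) * (X * (C (C ((M : R) * 2 ^ a)) * AA R ^ (M - 1) + C (C ((a : R) * 2 ^ (a - 1))) * AA R ^ M)) -
      C (C (ρ * τ)) * (C X * (X * (C (C ((M : R) * (M - 1) * 2 ^ a)) * AA R ^ (M - 2) +
        C (C (2 * ((M : R) * a * 2 ^ (a - 1)))) * AA R ^ (M - 1) +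
          C (C ((a : R) * (a - 1) * 2 ^ (a - 2))) * AA R ^ M))) := by
    rw [PP_nil ρ τ hρ hτ]
    simp only [C_mul, C_sub, C_pow, map_natCast, C_1, show (C 2 : R[X]) = 2 from rfl, show (C 2 : R[X][X]) = 2 from rfl]
    ring
  unfold KK
  rw [e, map_sub, map_sub, map_add, cf_smul, cf_smul, cf_smul, cf_smul, cf_u, cf_v, cf_u, cf_v, map_add, map_add, map_add,
    map_add, cf_smul, cf_smul, cf_smul, cf_smul, cf_smul, cf_smul, cf_smul, c10, c01, c11]
  simp only [cf_AA_int (R := R)]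
  push_cast
  ring

theorem exists_KK_ne {k : Type*} [Field k] [Infinite k] {T : Type*} [CommRing T] [Algebra k T] {ρ τ : T} {M a i j : ℕ}
    (h : KK ρ τ M a i j ≠ 0) : ∃ r s : k, KK r s M a i j ≠ 0 := by
  let ψ : k[X][X] →+* T := eval₂RingHom (eval₂RingHom (algebraMap k T) ρ) τ
  have h0 : KK (C X : k[X][X]) X M a i j ≠ 0 := by
    intro h0
    apply h
    have := KK_map ψ (C X : k[X][X]) X M a i j
    rw [h0, map_zero] at this
    rw [this]
    congr 1
    · simp [ψ]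
    · simp [ψ]
  obtain ⟨s, hs⟩ : ∃ s : k, (KK (C X : k[X][X]) X M a i j).eval (C s) ≠ 0 := by
    by_contra hcon
    push Not at hcon
    apply h0
    apply eq_zero_of_infinite_isRoot
    apply Set.infinite_of_injective_forall_mem (f := fun s : k => (C s : k[X])) C_injective
    intro s
    exact hcon s
  obtain ⟨r, hr⟩ : ∃ r : k, ((KK (C X : k[X][X]) X M a i j).eval (C s)).eval r ≠ 0 := by
    by_contra hcon
    push Not at hcon
    apply hs
    apply eq_zero_of_infinite_isRoot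
    apply Set.infinite_of_injective_forall_mem (f := fun s : k => s) Function.injective_id
    intro s
    exact hcon s
  refine ⟨r, s, ?_⟩
  have := KK_map ((evalRingHom r).comp (evalRingHom (C s))) (C X : k[X][X]) X M a i j
  simp only [RingHom.comp_apply, coe_evalRingHom, eval_C, eval_X] at this
  rw [← this]
  exact hr

theorem exists_of_c10 {k : Type*} [Field k] [Infinite k] {M a b : ℕ} (h : ((c10 M a b : ℤ) : k) ≠ 0) :
    ∃ r s : k, KK r s M a (b + 1) (b + 1) ≠ 0 := by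
  apply exists_KK_ne (T := DualNumber k) (ρ := DualNumber.eps) (τ := 0)
  rw [KK_nil _ _ DualNumber.eps_mul_eps (by simp)]
  intro h0
  apply h
  generalize (2 ^ a * cf (b + 1) (b + 1) (AA ℤ ^ M) : ℤ) = N at h0
  have := congrArg TrivSqZeroExt.snd h0
  simpa using this

theorem exists_of_c11 {k : Type*} [Field k] [Infinite k] {M a b : ℕ} (h : ((c11 M a b : ℤ) : k) ≠ 0) :
    ∃ r s : k, KK r s M a (b + 1) (b + 1) ≠ 0 := by
  apply exists_KK_ne (T := DualNumber (DualNumber k)) (ρ := TrivSqZeroExt.inl DualNumber.eps) (τ := DualNumber.eps)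
  rw [KK_nil _ _ (by rw [← TrivSqZeroExt.inl_mul, DualNumber.eps_mul_eps, TrivSqZeroExt.inl_zero]) DualNumber.eps_mul_eps]
  intro h0
  apply h
  generalize (2 ^ a * cf (b + 1) (b + 1) (AA ℤ ^ M) : ℤ) = N at h0
  have := congrArg TrivSqZeroExt.snd (congrArg TrivSqZeroExt.snd h0)
  simpa using this

end nil

section num

variable {p : ℕ} [hp : Fact p.Prime] {k : Type*} [Field k] [CharP k p]

omit hp in
theorem natCast_ne {n : ℕ} (h0 : 0 < n) (h : n < p) : (n : k) ≠ 0 := by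
  rw [Ne, CharP.cast_eq_zero_iff k p]
  exact Nat.not_dvd_of_pos_of_lt h0 h

theorem choose_ne {n i : ℕ} (h : n < p) (hi : i ≤ n) : ((n.choose i : ℕ) : k) ≠ 0 := by
  rw [Ne, CharP.cast_eq_zero_iff k p]
  intro hd
  have h1 : p ∣ n.factorial := by
    rw [← Nat.choose_mul_factorial_mul_factorial hi]
    exact Dvd.dvd.mul_right (Dvd.dvd.mul_right hd _) _
  have := (hp.out.dvd_factorial).1 h1
  omega

theorem ee_odd' (n l : ℕ) (hl : Odd l) : ee ℤ n l = 0 := by
  obtain ⟨c, rfl⟩ := hl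
  exact ee_odd n c

/-- `(c + 1) C(2c+1, c) = (2c + 1) C(2c, c)` -/
theorem ch1 (c : ℕ) : (c + 1) * (2 * c + 1).choose c = (2 * c + 1) * (2 * c).choose c := by
  have h := Nat.add_one_mul_choose_eq (2 * c) c
  have h2 : (2 * c + 1).choose (c + 1) = (2 * c + 1).choose c := Nat.choose_symm_half c
  rw [h2] at h
  linarith

/-- `2 C(2n+1, n+1) = C(2n+2, n+1)` -/
theorem ch2 (n : ℕ) : 2 * (2 * n + 1).choose (n + 1) = (2 * n + 2).choose (n + 1) := by
  have h2 : (2 * n + 1).choose (n + 1) = (2 * n + 1).choose n := Nat.choose_symm_half n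
  have h3 := Nat.choose_succ_succ (2 * n + 1) n
  rw [Nat.succ_eq_add_one, Nat.succ_eq_add_one, show 2 * n + 1 + 1 = 2 * n + 2 by ring] at h3
  omega

/-- `(n + 2) C(2n+2, n) = 2 (2n + 1) C(2n, n)` -/
theorem ch3 (n : ℕ) : (n + 2) * (2 * n + 2).choose n = 2 * ((2 * n + 1) * (2 * n).choose n) := by
  have h1 := ch1 n
  have h := Nat.choose_mul_succ_eq (2 * n + 1) n
  -- C(2n+1, n) (2n+2) = C(2n+2, n) (2n+2-n)
  have h' : (2 * n + 1).choose n * (2 * n + 2) = (2 * n + 2).choose n * (n + 2) := by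
    rw [h]
    congr 1
    omega
  nlinarith

/-- `(c + 1) (C(2c+2, c+1) - C(2c+2, c)) = ...` Catalan -/
theorem ch4 (c : ℕ) : (c + 2) * ((2 * (c + 1)).choose (c + 1)) = (c + 2) * (2 * (c + 1)).choose c +
    (2 * (c + 1)).choose (c + 1) := by
  have h := Nat.choose_succ_right_eq (2 * (c + 1)) c
  -- C(2c+2, c+1) (c+1) = C(2c+2, c) (2c+2-c)
  have h' : (2 * (c + 1)).choose (c + 1) * (c + 1) = (2 * (c + 1)).choose c * (c + 2) := by
    rw [h]
    congr 1
    omega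
  nlinarith

theorem pw2 (a : ℕ) : 2 * ((a : ℤ) * 2 ^ (a - 1)) = a * 2 ^ a := by
  rcases a with _ | a
  · simp
  · rw [Nat.add_sub_cancel, pow_succ]; ring

theorem pw4 (a : ℕ) : 4 * ((a : ℤ) * (a - 1) * 2 ^ (a - 2)) = a * (a - 1) * 2 ^ a := by
  rcases a with _ | _ | a
  · simp
  · simp
  · rw [show a + 1 + 1 - 2 = a by omega, pow_succ, pow_succ]; push_cast; ring

theorem c10_eq (c a : ℕ) : 2 * (c + 1) * c10 (4 * c + 2) a (2 * c) =
    - ((-1) ^ c * (2 * c + 1) * 2 ^ a * ((4 * c + 2).choose (2 * c + 1) : ℤ) * ((2 * c).choose c : ℤ) * (2 * (c + 1) + a)) := by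
  have h1 : cf (2 * c) (2 * c + 1) (AA ℤ ^ (4 * c + 2 - 1)) =
      - (((4 * c + 1).choose (2 * c + 1) : ℤ) * ((-1) ^ c * ((2 * c).choose c : ℤ))) := by
    have : cf (2 * c) (2 * c + 1) (AA ℤ ^ (2 * (2 * c) + 1)) = ((2 * (2 * c) + 1).choose (2 * c + 1) : ℤ) *
        (-1) ^ (2 * c + 1) * ee ℤ (2 * c) (2 * c) := by
      rcases c with _ | c
      · exact cf_1' 0
      · rw [show 2 * (c + 1) = (2 * c + 1) + 1 by ring, cf_1, ee_odd' _ (2 * c + 1) (odd_two_mul_add_one c), sub_zero]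
    rw [show 4 * c + 2 - 1 = 2 * (2 * c) + 1 by omega, this, ee_two, show 4 * c + 1 = 2 * (2 * c) + 1 by ring, pow_succ,
      (even_two_mul c).neg_one_pow]
    ring
  have h2 : cf (2 * c) (2 * c + 1) (AA ℤ ^ (4 * c + 2)) =
      - (((4 * c + 2).choose (2 * c + 1) : ℤ) * ((-1) ^ c * ((2 * c + 1).choose c : ℤ))) := by
    rw [show 4 * c + 2 = 2 * (2 * c + 1) by ring, cf_0, ee_two, pow_succ, (even_two_mul c).neg_one_pow]
    ring
  have h3 : (c + 1 : ℤ) * ((2 * c + 1).choose c : ℤ) = (2 * c + 1) * ((2 * c).choose c : ℤ) := by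
    exact_mod_cast ch1 c
  have h4 : 2 * ((4 * c + 1).choose (2 * c + 1) : ℤ) = ((4 * c + 2).choose (2 * c + 1) : ℤ) := by
    have := ch2 (2 * c)
    rw [show 2 * (2 * c) + 1 = 4 * c + 1 by ring, show 2 * (2 * c) + 2 = 4 * c + 2 by ring] at this
    exact_mod_cast this
  have h5 := pw2 a
  unfold c10
  rw [h1, h2]
  generalize ((4 * c + 2).choose (2 * c + 1) : ℤ) = B at *
  generalize ((4 * c + 1).choose (2 * c + 1) : ℤ) = B' at *
  generalize ((2 * c).choose c : ℤ) = D at *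
  generalize ((2 * c + 1).choose c : ℤ) = D' at *
  generalize (-1 : ℤ) ^ c = σ at *
  push_cast
  linear_combination (- (4 * (c : ℤ) + 2) * 2 ^ a * (c + 1) * σ * D) * h4 - (σ * B * (c + 1) * D') * h5 -
    (σ * B * a * 2 ^ a) * h3

theorem c11_eq (c a : ℕ) : 4 * (c + 1) ^ 2 * c11 (4 * c + 2) a (2 * c) =
    (-1) ^ c * (4 * c + 1) * 2 ^ a * ((4 * c).choose (2 * c) : ℤ) * ((2 * c).choose c : ℤ) *
      (4 * (c + 1) ^ 2 * (4 * c + 2) + 8 * a * (c + 1) ^ 2 + a * (a - 1)) := by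
  have h1 : cf (2 * c) (2 * c) (AA ℤ ^ (4 * c + 2 - 2)) =
      ((4 * c).choose (2 * c) : ℤ) * ((-1) ^ c * ((2 * c).choose c : ℤ)) := by
    rw [show 4 * c + 2 - 2 = 2 * (2 * c) by omega, cf_0, ee_two, (even_two_mul c).neg_one_pow,
      show 2 * (2 * c) = 4 * c by ring]
    ring
  have h2 : cf (2 * c) (2 * c) (AA ℤ ^ (4 * c + 2 - 1)) =
      ((4 * c + 1).choose (2 * c) : ℤ) * ((-1) ^ c * ((2 * c).choose c : ℤ)) := by
    have : cf (2 * c) (2 * c) (AA ℤ ^ (2 * (2 * c) + 1)) = ((2 * (2 * c) + 1).choose (2 * c) : ℤ) *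
        (-1) ^ (2 * c) * ee ℤ (2 * c) (2 * c) := by
      rcases c with _ | c
      · exact cf_2' 0
      · rw [show 2 * (c + 1) = (2 * c + 1) + 1 by ring, cf_2, ee_odd' _ (2 * c + 1) (odd_two_mul_add_one c), add_zero]
    rw [show 4 * c + 2 - 1 = 2 * (2 * c) + 1 by omega, this, ee_two, show 4 * c + 1 = 2 * (2 * c) + 1 by ring,
      (even_two_mul c).neg_one_pow]
    ring
  have h3 : (c + 1 : ℤ) * cf (2 * c) (2 * c) (AA ℤ ^ (4 * c + 2)) =
      ((4 * c + 2).choose (2 * c) : ℤ) * ((-1) ^ c * ((2 * c).choose c : ℤ)) := by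
    rcases c with _ | c
    · have := cf_3' (R := ℤ) 0
      simp only [Nat.mul_zero, Nat.zero_add] at this ⊢
      rw [this]
      have e : ee ℤ 0 0 = 1 := by simp [ee]
      simp [e]
    · have h := cf_3 (R := ℤ) (2 * c) (2 * (c + 1))
      rw [show 2 * c + 2 = 2 * (c + 1) by ring, ee_odd' _ (2 * c + 1) (odd_two_mul_add_one c), ee_two, ee_two,
        (even_two_mul (c + 1)).neg_one_pow] at h
      rw [show 4 * (c + 1) + 2 = 2 * (2 * (c + 1)) + 2 by ring, h]
      have h4 : ((c : ℤ) + 2) * ((2 * (c + 1)).choose (c + 1) : ℤ) = (c + 2) * ((2 * (c + 1)).choose c : ℤ) +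
        ((2 * (c + 1)).choose (c + 1) : ℤ) := by exact_mod_cast ch4 c
      generalize ((2 * (c + 1)).choose (c + 1) : ℤ) = D at *
      generalize ((2 * (c + 1)).choose c : ℤ) = D' at *
      push_cast
      rw [pow_succ]
      linear_combination (-((2 * (2 * (c + 1)) + 2).choose (2 * (c + 1)) : ℤ) * (-1) ^ c) * h4
  have h4 : (2 * c + 1 : ℤ) * ((4 * c + 1).choose (2 * c) : ℤ) = (4 * c + 1) * ((4 * c).choose (2 * c) : ℤ) := by
    have := ch1 (2 * c)
    rw [show 2 * (2 * c) + 1 = 4 * c + 1 by ring, show 2 * (2 * c) = 4 * c by ring] at this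
    exact_mod_cast this
  have h5 : (c + 1 : ℤ) * ((4 * c + 2).choose (2 * c) : ℤ) = (4 * c + 1) * ((4 * c).choose (2 * c) : ℤ) := by
    have := ch3 (2 * c)
    rw [show 2 * (2 * c) + 1 = 4 * c + 1 by ring, show 2 * (2 * c) + 2 = 4 * c + 2 by ring,
      show 2 * (2 * c) = 4 * c by ring] at this
    have h : 2 * ((c + 1 : ℤ) * ((4 * c + 2).choose (2 * c) : ℤ)) = 2 * ((4 * c + 1) * ((4 * c).choose (2 * c) : ℤ)) := by
      have h' : (2 * c + 2 : ℤ) * ((4 * c + 2).choose (2 * c) : ℤ) = 2 * ((4 * c + 1) * ((4 * c).choose (2 * c) : ℤ)) := by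
        exact_mod_cast this
      linarith
    linarith
  have h6 := pw2 a
  have h7 := pw4 a
  unfold c11
  rw [h1, h2]
  generalize ((4 * c).choose (2 * c) : ℤ) = B at *
  generalize ((4 * c + 1).choose (2 * c) : ℤ) = B' at *
  generalize ((4 * c + 2).choose (2 * c) : ℤ) = B'' at *
  generalize ((2 * c).choose c : ℤ) = D at *
  generalize cf (2 * c) (2 * c) (AA ℤ ^ (4 * c + 2)) = E at *
  generalize (-1 : ℤ) ^ c = σ at *
  push_cast
  linear_combination (4 * ((c : ℤ) + 1) ^ 2 * (4 * c + 2) * B' * σ * D) * h6 +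
    (8 * ((c : ℤ) + 1) ^ 2 * a * 2 ^ a * σ * D) * h4 + ((c + 1 : ℤ) ^ 2 * E) * h7 +
    ((a : ℤ) * (a - 1) * 2 ^ a * (c + 1)) * h3 + ((a : ℤ) * (a - 1) * 2 ^ a * σ * D) * h5

/-- the case `b` odd -/
theorem exists_odd [Infinite k] (hp2 : p ≠ 2) (c a : ℕ) (hc : 4 * c + 2 < p) :
    ∃ r s : k, KK r s (4 * c + 2) a (2 * c + 1) (2 * c + 1) ≠ 0 := by
  have hp3 : 2 < p := lt_of_le_of_ne hp.out.two_le (Ne.symm hp2)
  have n2 : (2 : k) ≠ 0 := by exact_mod_cast natCast_ne (k := k) (p := p) (n := 2) (by norm_num) hp3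
  by_cases h : ((2 * (c + 1) + a : ℕ) : k) = 0
  · -- second order
    apply exists_of_c11
    intro h0
    have h1 := congrArg (Int.cast : ℤ → k) (c11_eq c a)
    push_cast at h1 h
    rw [h0, mul_zero] at h1
    have ha' : (a : k) = -(2 * (c + 1)) := by linear_combination h
    have h2 : (-1 : k) ^ c ≠ 0 := pow_ne_zero _ (neg_ne_zero.2 one_ne_zero)
    have h3 : (4 * (c : k) + 1) ≠ 0 := by
      exact_mod_cast natCast_ne (k := k) (p := p) (n := 4 * c + 1) (by omega) (by omega)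
    have h4 : (((4 * c).choose (2 * c) : ℕ) : k) ≠ 0 := choose_ne (p := p) (by omega) (by omega)
    have h5 : (((2 * c).choose c : ℕ) : k) ≠ 0 := choose_ne (p := p) (by omega) (by omega)
    have h6 : ((c : k) + 1) ≠ 0 := by
      exact_mod_cast natCast_ne (k := k) (p := p) (n := c + 1) (by omega) (by omega)
    have h7 : (2 * (c : k) + 1) ≠ 0 := by
      exact_mod_cast natCast_ne (k := k) (p := p) (n := 2 * c + 1) (by omega) (by omega)
    have h8 : (4 * ((c : k) + 1) ^ 2 * (4 * c + 2) + 8 * a * (c + 1) ^ 2 + a * (a - 1)) =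
        -(2 * (c + 1) * (2 * c + 1)) := by
      rw [ha']; ring
    rw [h8] at h1
    have := mul_ne_zero (mul_ne_zero (mul_ne_zero (mul_ne_zero (mul_ne_zero h2 h3) (pow_ne_zero a n2)) h4) h5)
      (neg_ne_zero.2 (mul_ne_zero (mul_ne_zero n2 h6) h7))
    exact this h1.symm
  · apply exists_of_c10
    intro h0
    have h1 := congrArg (Int.cast : ℤ → k) (c10_eq c a)
    push_cast at h1 h
    rw [h0, mul_zero] at h1
    have h2 : (-1 : k) ^ c ≠ 0 := pow_ne_zero _ (neg_ne_zero.2 one_ne_zero)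
    have h4 : (((4 * c + 2).choose (2 * c + 1) : ℕ) : k) ≠ 0 := choose_ne (p := p) (by omega) (by omega)
    have h5 : (((2 * c).choose c : ℕ) : k) ≠ 0 := choose_ne (p := p) (by omega) (by omega)
    have h7 : (2 * (c : k) + 1) ≠ 0 := by
      exact_mod_cast natCast_ne (k := k) (p := p) (n := 2 * c + 1) (by omega) (by omega)
    have := neg_ne_zero.2 (mul_ne_zero (mul_ne_zero (mul_ne_zero (mul_ne_zero (mul_ne_zero h2 h7) (pow_ne_zero a n2)) h4)
      h5) h)
    exact this h1.symm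

theorem KK_zero (M a i j : ℕ) : KK (0 : k) 0 M a i j = 2 ^ a * cf i j (AA k ^ M) := by
  unfold KK PP
  have : (AA k + (C (C 0) * C X - C (C 0) * X)) ^ M * (2 + (C (C 0) * C X - C (C 0) * X)) ^ a =
      C (C ((2 : k) ^ a)) * AA k ^ M := by
    simp only [C_pow, show (C 2 : k[X]) = 2 from rfl, show (C 2 : k[X][X]) = 2 from rfl, C_0, zero_mul, sub_zero, add_zero]
    ring
  rw [this, cf_smul]

/-- the case `b` even -/
theorem exists_even (hp2 : p ≠ 2) (c a : ℕ) (hc : 4 * c < p) :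
    KK (0 : k) 0 (4 * c) a (2 * c) (2 * c) ≠ 0 := by
  have hp3 : 2 < p := lt_of_le_of_ne hp.out.two_le (Ne.symm hp2)
  have n2 : (2 : k) ≠ 0 := by exact_mod_cast natCast_ne (k := k) (p := p) (n := 2) (by norm_num) hp3
  rw [KK_zero, show 4 * c = 2 * (2 * c) by ring, cf_0, ee_two, (even_two_mul c).neg_one_pow, mul_one]
  exact mul_ne_zero (pow_ne_zero a n2) (mul_ne_zero (choose_ne (p := p) (by omega) (by omega))
    (mul_ne_zero (pow_ne_zero _ (neg_ne_zero.2 one_ne_zero)) (choose_ne (p := p) (by omega) (by omega))))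

/-- the case `M` odd -/
theorem exists_s1 (hp2 : p ≠ 2) (b a : ℕ) (hb : 2 * b + 1 < p) :
    KK (0 : k) 0 (2 * b + 1) a b (b + 1) ≠ 0 := by
  have hp3 : 2 < p := lt_of_le_of_ne hp.out.two_le (Ne.symm hp2)
  have n2 : (2 : k) ≠ 0 := by exact_mod_cast natCast_ne (k := k) (p := p) (n := 2) (by norm_num) hp3
  have n1 : ∀ l : ℕ, (-1 : k) ^ l ≠ 0 := fun l => pow_ne_zero _ (neg_ne_zero.2 one_ne_zero)
  rw [KK_zero]
  apply mul_ne_zero (pow_ne_zero a n2)
  rcases b with _ | b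
  · rw [cf_1', show (0 : ℕ) = 2 * 0 from rfl, ee_two]
    simp
  · rw [cf_1]
    refine mul_ne_zero (mul_ne_zero (choose_ne (p := p) (by omega) (by omega)) (n1 _)) ?_
    rcases Nat.even_or_odd b with ⟨c, hc⟩ | ⟨c, hc⟩
    · rw [show b = 2 * c by omega, ee_odd, ee_two, zero_sub, neg_ne_zero]
      exact mul_ne_zero (n1 _) (choose_ne (p := p) (by omega) (by omega))
    · rw [show b = 2 * c + 1 by omega, ee_odd, show 2 * c + 1 + 1 = 2 * (c + 1) by ring, ee_two, sub_zero]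
      exact mul_ne_zero (n1 _) (choose_ne (p := p) (by omega) (by omega))

end num

end Cfsg.Agent.H375.SZ
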