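import Mathlib
import Cfsg.Agent.H375.SZ.Num
import Cfsg.Agent.H168.Uni.SpStep

/-!
# Zero coefficients for `Sp₄` and the induction (helper375)
-/

set_option autoImplicit false
set_option linter.unusedSimpArgs false
set_option linter.unusedSectionVars false
set_option linter.unnecessarySeqFocus false

namespace Cfsg.Agent.H375.SZ

open Polynomial Cfsg.Agent.H168.Uni Cfsg.Agent.H168.Uni.Sp

section z

variable {m : ℕ} {k : Type*} [Field k]

theorem hasZ_mono (a : k) (μ : Fin m → ℤ) : HasZ (fun t => a * chi μ t) (if μ = 0 then a else 0) := by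
  unfold HasZ
  by_cases h : μ = 0
  · rw [if_pos h]
    have : ((fun t => a * chi μ t) - fun _ => a : (Fin m → kˣ) → k) = 0 := by
      subst h
      funext t
      simp [chi_zero]
    rw [this]
    exact Submodule.zero_mem _
  · rw [if_neg h]
    have : ((fun t => a * chi μ t) - fun _ => 0 : (Fin m → kˣ) → k) = a • chi μ := by
      funext t
      simp
    rw [this]
    exact Submodule.smul_mem _ _ (chi_mem h)

theorem hasZ_sum {ι : Type*} (s : Finset ι) (f : ι → (Fin m → kˣ) → k) (c : ι → k) (h : ∀ i ∈ s, HasZ (f i) (c i)) :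
    HasZ (fun t => ∑ i ∈ s, f i t) (∑ i ∈ s, c i) := by
  classical
  induction s using Finset.induction_on with
  | empty =>
    unfold HasZ
    have : ((fun t => ∑ i ∈ (∅ : Finset ι), f i t) - fun _ => ∑ i ∈ (∅ : Finset ι), c i : (Fin m → kˣ) → k) = 0 := by
      funext t
      simp
    rw [this]
    exact Submodule.zero_mem _
  | insert a s ha ih =>
    rw [Finset.sum_insert ha]
    have := hasZ_add (h a (Finset.mem_insert_self _ _)) (ih fun i hi => h i (Finset.mem_insert_of_mem hi))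
    convert this using 1
    funext t
    rw [Finset.sum_insert ha]

theorem hasZ_poly (s : ℤ) (M i j : ℕ) (h1 : (i : ℤ) + j = M) (h2 : (j : ℤ) = i + s) (P : k[X][X]) :
    HasZ (fun t : Fin 2 → kˣ => ((t 0 ^ s : kˣ) : k) * (((t 1)⁻¹ : kˣ) : k) ^ M *
      evalEval ((t 0 : k) * (t 1 : k)) ((t 1 : k) * (((t 0)⁻¹ : kˣ) : k)) P) (cf i j P) := by
  induction P using Polynomial.induction_on' with
  | add P Q hP hQ =>
    rw [map_add]
    convert hasZ_add hP hQ using 1
    funext t
    rw [evalEval_add]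
    ring
  | monomial j' R =>
    induction R using Polynomial.induction_on' with
    | add P Q hP hQ =>
      rw [map_add, map_add]
      convert hasZ_add hP hQ using 1
      funext t
      rw [evalEval_add]
      ring
    | monomial i' a =>
      have e : cf i j (monomial j' (monomial i' a)) = if (![s + i' - j', (i' : ℤ) + j' - M] : Fin 2 → ℤ) = 0 then a else 0 := by
        rw [cf_apply, coeff_monomial]
        by_cases h : (![s + i' - j', (i' : ℤ) + j' - M] : Fin 2 → ℤ) = 0
        · have ha : s + i' - j' = 0 := congrFun h 0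
          have hb : (i' : ℤ) + j' - M = 0 := congrFun h 1
          have hj : j' = j := by omega
          have hi : i' = i := by omega
          rw [if_pos h, if_pos hj, coeff_monomial, if_pos hi]
        · rw [if_neg h]
          by_cases hj : j' = j
          · rw [if_pos hj, coeff_monomial, if_neg]
            intro hi
            apply h
            subst hi hj
            funext x
            fin_cases x
            · change s + i' - j' = 0
              omega
            · change (i' : ℤ) + j' - M = 0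
              omega
          · rw [if_neg hj, coeff_zero]
      rw [e]
      convert hasZ_mono (k := k) a (![s + i' - j', (i' : ℤ) + j' - M] : Fin 2 → ℤ) using 1
      funext t
      have h3 : evalEval ((t 0 : k) * (t 1 : k)) ((t 1 : k) * (((t 0)⁻¹ : kˣ) : k)) (monomial j' (monomial i' a)) =
          a * ((t 0 : k) * (t 1 : k)) ^ i' * ((t 1 : k) * (((t 0)⁻¹ : kˣ) : k)) ^ j' := by
        rw [evalEval, eval_monomial, eval_mul, eval_monomial, eval_pow, eval_C]
      rw [h3]
      have h4 : chi (![s + i' - j', (i' : ℤ) + j' - M] : Fin 2 → ℤ) t =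
          ((t 0 ^ s * (t 1)⁻¹ ^ M * (t 0 * t 1) ^ i' * (t 1 * (t 0)⁻¹) ^ j' : kˣ) : k) := by
        unfold chi
        rw [Fin.prod_univ_two]
        congr 1
        change t 0 ^ (s + i' - j') * t 1 ^ ((i' : ℤ) + j' - M) = _
        rw [zpow_sub, zpow_add, zpow_sub, zpow_add, zpow_natCast, zpow_natCast, zpow_natCast, zpow_natCast,
          zpow_natCast, mul_pow, mul_pow, inv_pow, inv_pow]
        generalize t 0 ^ s = A
        generalize t 0 ^ i' = B
        generalize (t 0 ^ j')⁻¹ = D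
        generalize t 1 ^ i' = E
        generalize t 1 ^ j' = G
        generalize (t 1 ^ M)⁻¹ = H
        simp only [mul_comm, mul_left_comm, mul_assoc]
      rw [h4]
      push_cast
      ring

end z

/-! ### the frames -/

section frame

variable {k : Type*} [Field k]

def uf (ρ : k) : Fin 2 → Vc 2 k := ![Sum.elim ![1 + ρ, 1] ![1, -1], Sum.elim ![1, 1] ![0, 0]]
def uf' (ρ : k) : Fin 2 → Vc 2 k := ![Sum.elim ![0, 1] ![0, 0], Sum.elim ![1 + ρ, 0] ![1, 0]]
def vf (τ : k) : Fin 2 → Vc 2 k := ![Sum.elim ![1 + τ, 1] ![1, 1], Sum.elim ![1, 0] ![0, 1]]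
def vf' (τ : k) : Fin 2 → Vc 2 k := ![Sum.elim ![0, 0] ![0, 1], Sum.elim ![1 + τ, 0] ![1, 0]]

theorem Bs_uf (ρ : k) : Bs (uf ρ) (uf' ρ) := by
  constructor <;> intro i j <;> fin_cases i <;> fin_cases j <;>
    simp [om, Fin.sum_univ_succ, uf, uf']

theorem Bs_vf (τ : k) : Bs (vf τ) (vf' τ) := by
  constructor <;> intro i j <;> fin_cases i <;> fin_cases j <;>
    simp [om, Fin.sum_univ_succ, vf, vf']

theorem m1 (ρ τ : k) (t : Fin 2 → kˣ) : mS t (vf τ) (uf ρ) 0 =
    -(((t 1)⁻¹ : kˣ) : k) * evalEval ((t 0 : k) * (t 1 : k)) ((t 1 : k) * (((t 0)⁻¹ : kˣ) : k))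
      (SZ.AA k + (C (C ρ) * C X - C (C τ) * X)) := by
  unfold mS
  refine (Matrix.det_fin_one _).trans ?_
  change Pt t (vf τ 0) (uf ρ 0) = _
  have h0 := (t 0).ne_zero
  have h1 := (t 1).ne_zero
  simp [Pt, Fin.sum_univ_succ, vf, uf, SZ.AA, evalEval]
  field_simp
  ring

theorem m2 (ρ τ : k) (t : Fin 2 → kˣ) : mS t (vf τ) (uf ρ) 1 =
    evalEval ((t 0 : k) * (t 1 : k)) ((t 1 : k) * (((t 0)⁻¹ : kˣ) : k)) (2 + (C (C ρ) * C X - C (C τ) * X)) := by
  unfold mS
  refine (Matrix.det_fin_two _).trans ?_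
  change Pt t (vf τ 0) (uf ρ 0) * Pt t (vf τ 1) (uf ρ 1) - Pt t (vf τ 0) (uf ρ 1) * Pt t (vf τ 1) (uf ρ 0) = _
  have h0 := (t 0).ne_zero
  have h1 := (t 1).ne_zero
  simp [Pt, Fin.sum_univ_succ, vf, uf, evalEval]
  field_simp
  ring

theorem Zs_of_KK (n : Fin 2 → ℕ) (s : ℤ) (i j : ℕ) (h1 : (i : ℤ) + j = n 0) (h2 : (j : ℤ) = i + s) (ρ τ : k)
    (h : KK ρ τ (n 0) (n 1) i j ≠ 0) : Zs k n s := by
  refine ⟨uf ρ, uf' ρ, vf τ, vf' τ, (-1) ^ n 0 * KK ρ τ (n 0) (n 1) i j, Bs_uf ρ, Bs_vf τ,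
    mul_ne_zero (pow_ne_zero _ (neg_ne_zero.2 one_ne_zero)) h, ?_⟩
  have key := (hasZ_poly s (n 0) i j h1 h2 (PP ρ τ (n 0) (n 1))).smul ((-1) ^ n 0)
  change HasZ _ ((-1) ^ n 0 * KK ρ τ (n 0) (n 1) i j) at key
  convert key using 1
  funext t
  rw [Fin.prod_univ_two, m1, m2, PP, evalEval_mul, evalEval_pow, evalEval_pow, mul_pow, neg_pow (((t 1)⁻¹ : kˣ) : k)]
  ring

variable {p : ℕ} [hp : Fact p.Prime] [CharP k p] [Infinite k]

theorem Zs_two (hp2 : p ≠ 2) (n : Fin 2 → ℕ) (hn : n 0 < p) (s : ℤ) (hs : s = 0 ∨ s = 1)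
    (he : Even (s + Sp.AA n)) : Zs k n s := by
  have hA : Sp.AA n = n 0 := by simp [Sp.AA, Fin.sum_univ_succ]
  rw [hA] at he
  rcases hs with rfl | rfl
  · rw [zero_add] at he
    obtain ⟨b, hb⟩ := (Int.even_coe_nat _).1 he
    rcases Nat.even_or_odd b with ⟨c, hc⟩ | ⟨c, hc⟩
    · have h4 : n 0 = 4 * c := by omega
      apply Zs_of_KK n 0 (2 * c) (2 * c) (by omega) (by omega) (0 : k) 0
      rw [h4]
      exact exists_even (p := p) hp2 c (n 1) (by omega)
    · have h4 : n 0 = 4 * c + 2 := by omega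
      obtain ⟨ρ, τ, h⟩ := exists_odd (k := k) (p := p) hp2 c (n 1) (by omega)
      apply Zs_of_KK n 0 (2 * c + 1) (2 * c + 1) (by omega) (by omega) ρ τ
      rw [h4]
      exact h
  · have h1 : ∃ b, n 0 = 2 * b + 1 := by
      rw [Int.even_iff] at he
      exact ⟨n 0 / 2, by omega⟩
    obtain ⟨b, hb⟩ := h1
    apply Zs_of_KK n 1 b (b + 1) (by omega) (by omega) (0 : k) 0
    rw [hb]
    exact exists_s1 (p := p) hp2 b (n 1) (by omega)

/-- the inductive step -/
theorem Zs_step2 {r : ℕ} (n : Fin (r + 2 + 2) → ℕ) (hn : n 0 < p)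
    (ih : ∀ s : ℤ, (s = 0 ∨ s = 1) → Even (s + Sp.AA (fun j => n j.succ.succ)) →
      Zs k (fun j : Fin (r + 1 + 1) => n j.succ.succ) s) (s : ℤ) (hs : s = 0 ∨ s = 1) (he : Even (s + Sp.AA n)) :
    Zs k n s := by
  rw [AA_succ] at he
  -- the choice of `s'` and `i0`
  have hδ : ∃ (s' : ℤ) (i0 : ℕ), (s' = 0 ∨ s' = 1) ∧ Even (s' + Sp.AA (fun j => n j.succ.succ)) ∧ i0 ≤ n 0 ∧
      s + 2 * i0 - n 0 = s' := by
    push_cast at he
    generalize Sp.AA (fun j => n j.succ.succ) = A at *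
    rw [Int.even_iff] at he
    rcases Nat.even_or_odd' (n 0) with ⟨b, hb | hb⟩
    · refine ⟨s, b, hs, ?_, by omega, by omega⟩
      rw [Int.even_iff]; omega
    · rcases hs with rfl | rfl
      · refine ⟨1, b + 1, Or.inr rfl, ?_, by omega, by omega⟩
        rw [Int.even_iff]; omega
      · refine ⟨0, b, Or.inl rfl, ?_, by omega, by omega⟩
        rw [Int.even_iff]; omega
  obtain ⟨s', i0, hs', he', hi0, hsi⟩ := hδ
  obtain ⟨u, u', v, v', c, hu, hv, hc, hZ⟩ := ih s' hs' he'
  have hex : ∀ i : ℕ, ∃ ci : k, (i = i0 → ci = c) ∧ HasZ (fun t : Fin (r + 1 + 1) → kˣ =>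
      ((t 0 ^ (s + 2 * i - n 0) : kˣ) : k) * ∏ j, mS t v u j ^ n j.succ.succ) ci := by
    intro i
    by_cases hi : i = i0
    · refine ⟨c, fun _ => rfl, ?_⟩
      rw [hi, hsi]
      exact hZ
    · obtain ⟨ci, hci⟩ := exists_hasZ (mul_univ (single_mem (k := k) (0 : Fin (r + 1 + 1)) (s + 2 * i - n 0)
        (P := Set.univ) trivial) (prod_mS_mem u v fun j => n j.succ.succ))
      exact ⟨ci, fun h => absurd h hi, hci⟩
  choose cc hcc hZc using hex
  -- the polynomial in `α`
  let P : k[X] := ∑ i ∈ Finset.range (n 0 + 1), C (((n 0).choose i : k) * cc i) * X ^ i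
  have hP : P ≠ 0 := by
    intro h0
    have h1 : P.coeff i0 = ((n 0).choose i0 : k) * cc i0 := by
      rw [finsetSum_coeff]
      simp only [coeff_C_mul_X_pow]
      rw [Finset.sum_ite_eq, if_pos (Finset.mem_range.2 (by omega))]
    rw [h0, coeff_zero, hcc i0 rfl] at h1
    exact (mul_ne_zero (choose_ne (p := p) hn hi0) hc) h1.symm
  obtain ⟨α, hα⟩ : ∃ α : k, P.eval α ≠ 0 := by
    by_contra hcon
    push Not at hcon
    apply hP
    apply eq_zero_of_infinite_isRoot
    apply Set.infinite_of_injective_forall_mem (f := fun s : k => s) Function.injective_id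
    intro s
    exact hcon s
  apply Zs_step' n s hu hv α 1 _ hα
  have h1 := hasZ_sum (Finset.range (n 0 + 1)) (fun i => fun t : Fin (r + 1 + 1) → kˣ => (((n 0).choose i : k) * α ^ i) *
    (((t 0 ^ (s + 2 * i - n 0) : kˣ) : k) * ∏ j, mS t v u j ^ n j.succ.succ)) (fun i => ((n 0).choose i * α ^ i) * cc i)
    (fun i _ => (hZc i).smul _)
  convert h1 using 1
  · funext t
    rw [xx, one_mul, add_pow, Finset.mul_sum, Finset.sum_mul]
    apply Finset.sum_congr rfl
    intro i hi
    have hi' : i ≤ n 0 := Nat.lt_succ_iff.1 (Finset.mem_range.1 hi)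
    have h2 : t 0 ^ (s + 2 * i - n 0 : ℤ) = t 0 ^ s * t 0 ^ i * ((t 0)⁻¹) ^ (n 0 - i) := by
      rw [← zpow_natCast, ← zpow_natCast, inv_zpow', ← zpow_add, ← zpow_add]
      congr 1
      push_cast [hi']
      ring
    rw [h2, mul_pow]
    push_cast
    ring
  · rw [eval_finsetSum]
    apply Finset.sum_congr rfl
    intro i _
    rw [eval_mul, eval_C, eval_pow, eval_X]
    ring

/-- the claim for all even `m` -/
theorem Zs_even (hp2 : p ≠ 2) : ∀ (r : ℕ) (n : Fin (2 * r + 2) → ℕ), (∀ j, n j < p) → ∀ s : ℤ, (s = 0 ∨ s = 1) →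
    Even (s + Sp.AA n) → Zs k n s := by
  intro r
  induction r with
  | zero => exact fun n hn s hs he => Zs_two hp2 n (hn 0) s hs he
  | succ r ih =>
    intro n hn s hs he
    exact Zs_step2 (r := 2 * r) n (hn 0) (fun s' h1 h3 => ih (fun j => n j.succ.succ) (fun j => hn j.succ.succ) s' h1 h3)
      s hs he

end frame

end Cfsg.Agent.H375.SZ
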